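import Cfsg.Agent.Mrg.Omega.NO3S.CaseLW.LamQ.Frm
import Cfsg.Agent.Mrg.Omega.NO3S.CaseLW.LamQ.End
import Cfsg.Agent.Mrg.Omega.NO3S.CaseLW.QWc
import Cfsg.Agent.Mrg.Omega.NO3S.EThree.Frame
import Cfsg.Agent.Mrg.Omega.OM.Lev.Uni
import Cfsg.Agent.Mrg.Omega.OM.SwapT.QuietL

-- merged: Cfsg.Agent.Mrg.Omega.NO3S.CaseLW.LamQ.ActNZ
section

/-!
# Active weird parabolics over `MulL` do not normalise `Z_J`; `LowW` and `OffC` from one statement (`q ≥ 4`)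

Over `h : MulL S P B ZJ L W Z C A q` (helper969 #26497, helper925 #26625):

* `not_norm` : `Y ∈ P(T)`, `B ≤ T`, `O₂(P) ≰ O₂(Y)`, `Y` moves `Ω₁Z(T)`: `Y ≰ N_G(Z_J)`;
* `BestZ h H` : every `Y ∈ P(T)`, `Y ≤ H`, `B ≤ T`, of characteristic 2, `lim S ≤ O₂(Y)`, `O₂(P) ≰ O₂(Y)`,
  `Y ≰ N_G(Z_J)`, has a best offender `A ≤ T` on `⟨V_P^Y⟩`, `A ≰ O₂(Y)` (quiet or active);
* `lowW_of_bestZ`, `offC_of_bestZ` : `SWT.LowW h.cl H` and `SWT.OffC h.cl (N_G(Z_J)) H`, if `H` centralises some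
  `c ∈ Z_J` of full support; `lowC_of_bestZ`;
* `lowE_of_bestZ`, `offE_of_bestZ` : for `H = C_G(D)`, `D ≤ Z_J` meets every `Z l` (helper981's `LowE`, `OffE`).
-/

set_option autoImplicit false
set_option linter.unusedSectionVars false

namespace Cfsg.Agent.Omega.NO3S.CaseLW.LamQ.ActNZ

open Subgroup Cfsg Cfsg.Agent.ZN.ChoiceBase Cfsg.Agent.ZN.ChoiceSit
open Cfsg.Agent.ZN (jj zj bau zc zl o2)
open Cfsg.Agent.MinSimple.MinParabolic (IsMinPar)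
open Cfsg.Agent.Omega.OM.Lev.Uni (FrL)
open Cfsg.Agent.Omega.NO1.BestOff (Best)
open Cfsg.Agent.Omega.NO3S.Level
open Cfsg.Agent.Omega.OM.SwapK (VF)
open Cfsg.Agent.Omega.Node.MulX (MulL)
open Cfsg.Agent.Omega.OM.SWT (nL LowW LowC OffC)

universe u

variable {G : Type u} [Group G] [Finite G]
  {S : Sylow 2 G} {P B ZJ : Subgroup G} {k : ℕ} {L W Z C A : Fin k → Subgroup G} {q : ℕ}

/-- **an active minimal parabolic with `O₂(P) ≰ O₂(Y)` does not normalise `Z_J`** -/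
theorem not_norm (h : MulL S P B ZJ L W Z C A q) {T Y : Subgroup G} (hT : Syl T Y) (hB : B ≤ T)
    (hP : IsMinPar T Y) (hK : ¬ o2 P ≤ o2 Y) (hZ : ¬ Y ≤ centralizer (zc T : Set G)) :
    ¬ Y ≤ normalizer (ZJ : Set G) := by
  intro hN
  have hn : Y ≤ normalizer ((Y ⊓ centralizer (ZJ : Set G) : Subgroup G) : Set G) := by
    intro y hy
    rw [mem_normalizer_iff_cj, cj_inf, cj_centralizer, cj_eq_of_mem_normalizer (hN hy),
      cj_eq_of_mem_normalizer (le_normalizer hy)]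
  rcases hP.sup_eq_or_inf_le hT.2.1 (syl_not_dvd hT) inf_le_left hn with h1 | h1
  · apply hZ
    have hzT : zc T ≤ ZJ := by
      have hB' : OM.SwapT.BT (S : Subgroup G) (o2 P) ≤ T := by
        have e : B = OM.SwapT.BT (S : Subgroup G) (o2 P) := by rw [h.eB, h.eZ]; rfl
        exact e ▸ hB
      exact (Lam.zc_T_le h.cl hT.2.1 hB').trans h.eZ.ge
    rw [← h1]
    refine sup_le (inf_le_right.trans (centralizer_le ?_)) (le_centralizer_zc T)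
    exact_mod_cast hzT
  · apply hK
    have h2 : B ≤ T ⊓ (Y ⊓ centralizer (ZJ : Set G)) := le_inf hB (le_inf (hB.trans hT.1) h.lb.Bc)
    exact (h.fr.QB.trans h2).trans h1

/-- every weird `Y ≤ H` over `T ≥ B` which does not normalise `Z_J` has a best offender on `⟨V_P^Y⟩` outside `O₂(Y)` -/
def BestZ (_h : CaseL S P) (H : Subgroup G) : Prop :=
  ∀ T Y : Subgroup G, Syl T Y → OM.SwapT.BT (S : Subgroup G) (o2 P) ≤ T → IsMinPar T Y →
    Y ⊓ centralizer (o2 Y : Set G) ≤ o2 Y → Y ≤ H → lim (S : Subgroup G) ≤ o2 Y → ¬ o2 P ≤ o2 Y →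
    ¬ Y ≤ normalizer (OM.SwapT.ZT (S : Subgroup G) (o2 P) : Set G) → ∃ A, A ≤ T ∧ Best (VF S P Y) A ∧ ¬ A ≤ o2 Y

theorem offA_of_bestZ (h : MulL S P B ZJ L W Z C A q) {H : Subgroup G} (ho : BestZ h.cl H) :
    LowH.OffA h.cl H := by
  intro T Y hT hB hP hch hYH hl hK hZ
  have e : B = OM.SwapT.BT (S : Subgroup G) (o2 P) := by rw [h.eB, h.eZ]; rfl
  have eZ : ZJ = OM.SwapT.ZT (S : Subgroup G) (o2 P) := h.eZ
  have h1 := not_norm h hT (e ▸ hB) hP hK hZ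
  rw [eZ] at h1
  exact ho T Y hT hB hP hch hYH hl hK h1

/-- **`LowW` from `BestZ`** -/
theorem lowW_of_bestZ (h : MulL S P B ZJ L W Z C A q) (hq : 4 ≤ q) {H : Subgroup G} {c : G} (hc : c ∈ ZJ)
    (hcf : ∀ i, c ∉ C i) (hH : H ≤ centralizer ({c} : Set G)) (ho : BestZ h.cl H) : LowW h.cl H :=
  LowH.lowW_of h hq (fun _ _ _ _ _ hh => hh.false) hc hcf hH (offA_of_bestZ h ho)

/-- **`OffC` over `N_G(Z_J)` from `BestZ`** -/
theorem offC_of_bestZ (h : MulL S P B ZJ L W Z C A q) {H : Subgroup G} (ho : BestZ h.cl H) :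
    OffC h.cl (normalizer (ZJ : Set G)) H := by
  intro T Y hY hl hK
  refine ho T Y hY.syl hY.BT hY.min hY.char2 hY.le hl hK ?_
  have eZ : ZJ = OM.SwapT.ZT (S : Subgroup G) (o2 P) := h.eZ
  have h1 := hY.nM
  rwa [eZ] at h1

theorem lowE_of_bestZ (h : MulL S P B ZJ L W Z C A q) (hq : 4 ≤ q)
    (ho : ∀ D : Subgroup G, D ≤ ZJ → (∀ l, ∃ z ∈ Z l, z ≠ 1 ∧ z ∈ D) → BestZ h.cl (centralizer (D : Set G))) :
    ∀ D : Subgroup G, D ≤ ZJ → (∀ l, ∃ z ∈ Z l, z ≠ 1 ∧ z ∈ D) → LowW h.cl (centralizer (D : Set G)) :=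
  LowH.lowE_of h hq (fun _ _ _ _ _ hh => hh.false) fun D hD hl => offA_of_bestZ h (ho D hD hl)

theorem offE_of_bestZ (h : MulL S P B ZJ L W Z C A q)
    (ho : ∀ D : Subgroup G, D ≤ ZJ → (∀ l, ∃ z ∈ Z l, z ≠ 1 ∧ z ∈ D) → BestZ h.cl (centralizer (D : Set G))) :
    ∀ D : Subgroup G, D ≤ ZJ → (∀ l, ∃ z ∈ Z l, z ≠ 1 ∧ z ∈ D) →
      OffC h.cl (normalizer (ZJ : Set G)) (centralizer (D : Set G)) :=
  fun D hD hl => offC_of_bestZ h (ho D hD hl)

/-- `BestZ` is monotone in `H` -/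
theorem BestZ.mono {h : CaseL S P} {H H' : Subgroup G} (ho : BestZ h H') (hle : H ≤ H') : BestZ h H :=
  fun T Y hT hB hP hch hYH hl hK hn => ho T Y hT hB hP hch (hYH.trans hle) hl hK hn

/-- one vector of full support is enough -/
theorem bestZ_of_full (h : MulL S P B ZJ L W Z C A q)
    (ho : ∀ c ∈ ZJ, (∀ i, c ∉ C i) → BestZ h.cl (centralizer ({c} : Set G))) :
    ∀ D : Subgroup G, D ≤ ZJ → (∀ l, ∃ z ∈ Z l, z ≠ 1 ∧ z ∈ D) → BestZ h.cl (centralizer (D : Set G)) := by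
  intro D hD hl
  obtain ⟨c, hc, hcf⟩ := LowH.exists_full_of h hl
  exact (ho c (hD hc) hcf).mono (centralizer_le (Set.singleton_subset_iff.2 hc))

end Cfsg.Agent.Omega.NO3S.CaseLW.LamQ.ActNZ

end

-- merged: Cfsg.Agent.Mrg.Omega.NO3S.CaseLW.QWrel
section

/-!
# RELATIVE QW (helper555, OMEGA #26475), step (R) (helper498)

`WQ S P T Y`, `B ≤ T`, `L = V_P = ⨁ W i` over the frame `Bg`, `FrL`, `U = ⟨L^Y⟩`, no hypothesis `Y ≤ C_G(Z)`.  For every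
block `i` there is `M_i ≥ C_G(Z_J), L_i` with `U ≤ O₂(M_i)`.  Then **(neg)** is false.

* `W_ex`, `exists_act` : (5), from `U ≤ O₂(C_G(Z_J))`;
* `U_le_E` : (4), for `p ∈ P ∩ M`; `AF_ex_of`, `comm_mem` : (5);
* `exists_F` : some `W_F ≤ S` moves `W i`, for every `i`;
* `le_ZJ_of`, `eq_bot_of` : (6) : `X ≤ Z_J`, `X = 1`;
* `not_neg_rel`, `exists_best_rel` : the end.
-/

set_option autoImplicit false
set_option linter.unusedSectionVars false
set_option linter.dupNamespace false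

namespace Cfsg.Agent.Omega.NO3S.CaseLW.QWrel

open Subgroup Cfsg Cfsg.Agent.ZN Cfsg.Agent.ZN.ChoiceBase Cfsg.Agent.Omega.MinPar Cfsg.Agent.Omega.Frame
open Cfsg.Agent.Omega.FrameNOFF (CZ)
open Cfsg.Agent.ZN.ChoiceSit (Syl)
open Cfsg.Agent.MinSimple.VModule (oddGen)
open Cfsg.Agent.Omega.NO3b.EZero (cl cl_le le_cl cj_le_cl le_normalizer_cl oddGen_sup_syl)
open Cfsg.Agent.Omega.NO3S.Level
open Cfsg.Agent.Omega.NO3S.RedC
open Cfsg.Agent.Omega.NO3S.WY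
open Cfsg.Agent.Omega.NO3S.CaseLW.QWc
open Cfsg.Agent.Omega.NO3S.CaseLW.QWd (KK le_KK KK_le KK_BB KK_norm ZJ_le_R)
open Cfsg.Agent.Omega.NO1.BestOff (Best)
open Cfsg.Agent.Omega.FFThm (OffM ElemM)
open Cfsg.Agent.Omega.NOThreeL.VF (le_fM_iff elemM_mono)
open Cfsg.Agent.Omega.NO3S.EThree.Frame (Bg)
open Cfsg.Agent.Omega.OM.Lev.Uni (FrL)
open scoped Pointwise

universe u

variable {G : Type u} [Group G] [Finite G] {S : Sylow 2 G} {P T Y V F : Subgroup G}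

/-! ### (4), (5) -/

section five

theorem W_ex (h : WQ S P T Y) (BT : BB (S : Subgroup G) P ≤ T)
    (hlow : cl (zl (S : Subgroup G) P) Y ≤ o2 (centralizer (ZJ (S : Subgroup G) P : Set G)))
    (hV : Md S P Y V) (hF : NOne.Flat.Hyp V F) (hW : NOne.Flat.WW V F ≤ (S : Subgroup G)) :
    Ex T (cl (zl (S : Subgroup G) P) Y) (NOne.Flat.WW V F) :=
  Ex.of_best ((h.W_B hV hF hW).trans BT)
    (bestW hF (h.le_E' hV hF (R := ZJ (S : Subgroup G) P) le_rfl (U_le h hV) hlow hW))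

/-- some `W_F ≤ S` moves `L` -/
theorem exists_act (h : WQ S P T Y) (BT : BB (S : Subgroup G) P ≤ T)
    (hlow : cl (zl (S : Subgroup G) P) Y ≤ o2 (centralizer (ZJ (S : Subgroup G) P : Set G)))
    (neg : Neg T Y (cl (zl (S : Subgroup G) P) Y)) :
    ∃ F, ActW S P (zl (S : Subgroup G) (GX (S : Subgroup G) P Y)) F := by
  rcases h.cut with hp | ⟨-, ha | ⟨F, hw⟩⟩
  · exfalso
    obtain ⟨A, mA, hAP, hAY⟩ := hp.act
    exact hAY (Ex.le_o2 h neg (Ex.of_best (hAP.trans h.QT) (best_mono mA.best (U_le_zl h) (h.Vc h.md_zl))))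
  · exact ha
  · exact absurd (Ex.le_o2 h neg (W_ex h BT hlow h.md_zl hw.hyp (hw.WQ.trans h.o2P_le))) hw.mv

/-- `V ⊓ O₂(M) ≤ O₂(C_G(Z_J))` -/
theorem low_of (h : WQ S P T Y) (hV : Md S P Y V) {M : Subgroup G}
    (hM : centralizer (ZJ (S : Subgroup G) P : Set G) ≤ M) :
    V ⊓ o2 M ≤ o2 (centralizer (ZJ (S : Subgroup G) P : Set G)) := by
  have h1 : V ≤ centralizer (ZJ (S : Subgroup G) P : Set G) :=
    (h.Vc hV).trans (centralizer_le ((ZJ_le h.cl).trans (h.L_le_V hV)))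
  intro v hv
  exact NOne.Flat.o2_inf_le_o2 hM ⟨hv.2, h1 hv.1⟩

/-- **(4)** : `U ≤ E_(F^p)` for `p ∈ P ∩ M` -/
theorem U_le_E (h : WQ S P T Y) (hV : Md S P Y V) (hF : NOne.Flat.Hyp V F)
    (hW : NOne.Flat.WW V F ≤ (S : Subgroup G)) {M : Subgroup G}
    (hM : centralizer (ZJ (S : Subgroup G) P : Set G) ≤ M) (hU : cl (zl (S : Subgroup G) P) Y ≤ o2 M) {p : G}
    (hp : p ∈ P) (hpM : p ∈ M) :
    cl (zl (S : Subgroup G) P) Y ≤ NOne.Flat.EE V (MulAut.conj p • F) := by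
  have h0 : cl (zl (S : Subgroup G) P) Y ≤ V ⊓ o2 M := le_inf (U_le h hV) hU
  have h1 := cj_mono p (h.le_E' hV hF (R := ZJ (S : Subgroup G) P) le_rfl (inf_le_left : V ⊓ o2 M ≤ V)
    (low_of h hV hM) hW)
  have h2 : cj p (V ⊓ o2 M) = V ⊓ o2 M := by
    rw [cj_inf, cj_eq_of_mem_normalizer (PV h hV hp), cj_eq_of_mem_normalizer (ZN.le_normalizer_o2 _ hpM)]
  rw [h2] at h1
  refine h0.trans (h1.trans ?_)
  rw [← NOne.Flat.EE_conj (PV h hV hp)]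
  rfl

/-- **(5)** : `A_F^p` is exact on `U` if `U ≤ E_(F^p)`. -/
theorem AF_ex_of (h : WQ S P T Y) (hV : Md S P Y V) (hF : NOne.Flat.Hyp V F)
    (hW : NOne.Flat.WW V F ≤ (S : Subgroup G)) {p : G} (hp : p ∈ P)
    (hU : cl (zl (S : Subgroup G) P) Y ≤ NOne.Flat.EE V (MulAut.conj p • F)) :
    Ex T (cl (zl (S : Subgroup G) P) Y)
      (cj p (NOne.Flat.WW V F ⊓ centralizer (zl (S : Subgroup G) P : Set G))) := by
  have hPV := PV h hV hp
  have hQ : cj p (NOne.Flat.WW V F ⊓ centralizer (zl (S : Subgroup G) P : Set G)) ≤ o2 P := by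
    have h1 : NOne.Flat.WW V F ⊓ centralizer (zl (S : Subgroup G) P : Set G) ≤ o2 P := by
      rw [← h.parP.inf_centralizer S h.hG]
      exact inf_le_inf_right _ hW
    have h2 := cj_mono p h1
    rwa [cj_eq_of_mem_normalizer (ZN.le_normalizer_o2 _ hp)] at h2
  refine ⟨hQ.trans h.QT, ?_, ?_⟩
  · rw [cj_AF h hV hp]
    exact elemM_mono (elemW (hyp_cj hF hPV) (hU.trans inf_le_left)) inf_le_left
  · rw [cj_AF h hV hp, le_fM_iff]
    exact WY.best_AF (hyp_cj hF hPV) (le_cl _ _) hU (hex_cj h hV hF hW hp)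

/-- **(5)** : `[C_U(A_F^p), W_F^p] ≤ L` if `U ≤ E_(F^p)` -/
theorem comm_mem (h : WQ S P T Y) (hV : Md S P Y V) (hF : NOne.Flat.Hyp V F)
    (hW : NOne.Flat.WW V F ≤ (S : Subgroup G)) {p : G} (hp : p ∈ P)
    (hU : cl (zl (S : Subgroup G) P) Y ≤ NOne.Flat.EE V (MulAut.conj p • F)) {v : G}
    (hv : v ∈ cl (zl (S : Subgroup G) P) Y)
    (hc : v ∈ centralizer (cj p (NOne.Flat.WW V F ⊓ centralizer (zl (S : Subgroup G) P : Set G)) : Set G)) {x : G}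
    (hx : x ∈ cj p (NOne.Flat.WW V F)) : x * v * x⁻¹ * v⁻¹ ∈ zl (S : Subgroup G) P := by
  have hLV := h.L_le_V hV
  have hFp := hyp_cj hF (PV h hV hp)
  have hFL : ∀ l ∈ zl (S : Subgroup G) P, ∀ f ∈ MulAut.conj p • F, l * f = f * l := fun l hl f hf =>
    mem_centralizer_iff.1 ((h.Vc hV) (hFp.F_le_V hf)) l (hLV hl)
  have h0 : v ∈ zl (S : Subgroup G) P ⊔ MulAut.conj p • F := by
    rw [cj_AF h hV hp] at hc
    rw [← WY.cent_AF hFp (L_le_E_cj h hV hF hW hp) (hex_cj h hV hF hW hp)]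
    exact ⟨hU hv, hc⟩
  obtain ⟨l, hl, f, hf, rfl⟩ := SQ1.Bau.mem_sup_comm hFL h0
  have hxW : x ∈ NOne.Flat.WW V (MulAut.conj p • F) := by rwa [WW_cj (PV h hV hp)]
  have h1 : x * f = f * x := (mem_centralizer_iff.1 (NOne.Flat.Hyp.W_le_X hxW) f hf).symm
  have hxP : x ∈ P := by
    have h2 := cj_mono p (hW.trans h.parP.le) hx
    rwa [cj_eq_of_mem_normalizer (le_normalizer hp)] at h2
  have h3 : x * l * x⁻¹ ∈ zl (S : Subgroup G) P := (mem_normalizer_iff.1 (ZN.le_normalizer_zl _ _ hxP) l).1 hl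
  have e : x * (l * f) * x⁻¹ * (l * f)⁻¹ = (x * l * x⁻¹) * l⁻¹ := by
    have h4 : f * x⁻¹ = x⁻¹ * f := by
      have : x⁻¹ * (x * f) * x⁻¹ = x⁻¹ * (f * x) * x⁻¹ := by rw [h1]
      simpa [mul_assoc] using this
    calc x * (l * f) * x⁻¹ * (l * f)⁻¹ = x * l * (f * x⁻¹) * f⁻¹ * l⁻¹ := by group
      _ = x * l * (x⁻¹ * f) * f⁻¹ * l⁻¹ := by rw [h4]
      _ = _ := by group
  rw [e]
  exact mul_mem h3 (inv_mem hl)

end five

/-! ### (6) -/

section six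

variable {ι : Type} {L W Z C A : ι → Subgroup G} {q : ℕ}

/-- some `W_F ≤ S` moves `W i` -/
theorem exists_F (h : WQ S P T Y) (hV : Md S P Y V)
    (bg : Bg S P (BB (S : Subgroup G) P) (ZJ (S : Subgroup G) P) L W Z C q)
    (fr : FrL (BB (S : Subgroup G) P) (o2 P) (zl (S : Subgroup G) P) (zl (S : Subgroup G) P) (ZJ (S : Subgroup G) P)
      L W Z C A q) (hFa : ActW S P V F) (i : ι) :
    ∃ F', NOne.Flat.Hyp V F' ∧ NOne.Flat.WW V F' ≤ (S : Subgroup G) ∧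
      ∃ b ∈ NOne.Flat.WW V F', ¬ ∀ v ∈ W i, b * v = v * b := by
  -- `W_F` moves some `W j`
  have h1 : ∃ j, ∃ b ∈ NOne.Flat.WW V F, ¬ ∀ v ∈ W j, b * v = v * b := by
    by_contra hcon
    push Not at hcon
    apply hFa.mv
    intro b hb
    have hbB : b ∈ BB (S : Subgroup G) P := h.W_B hV hFa.hyp hFa.WS hb
    refine (fr.mem_Q b hbB).2 fun v hv => ?_
    have h2 : b * v * b⁻¹ * v⁻¹ = 1 := by
      have hbV : b * v * b⁻¹ ∈ zl (S : Subgroup G) P :=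
        (mem_normalizer_iff.1 (ZN.le_normalizer_zl _ _ (h.parP.le (hFa.WS hb))) v).1 hv
      refine fr.C0 _ (mul_mem hbV (inv_mem hv)) fun j => ?_
      obtain ⟨w, hw, c, hc, rfl⟩ := fr.WC j v hv
      have h3 := hcon j b hb w hw
      have h4 := fr.BC j b hbB c hc
      have e : b * (w * c) * b⁻¹ * (w * c)⁻¹ = w * (b * c * b⁻¹ * c⁻¹) * w⁻¹ := by
        calc b * (w * c) * b⁻¹ * (w * c)⁻¹ = (b * w) * c * b⁻¹ * c⁻¹ * w⁻¹ := by group
          _ = (w * b) * c * b⁻¹ * c⁻¹ * w⁻¹ := by rw [h3]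
          _ = _ := by group
      have h5 : b * c * b⁻¹ * c⁻¹ ∈ C j := mul_mem h4 (inv_mem hc)
      have h6 : w * (b * c * b⁻¹ * c⁻¹) = (b * c * b⁻¹ * c⁻¹) * w := fr.Vc (fr.WV j hw) (fr.CV j h5)
      rw [e, h6, mul_inv_cancel_right]
      exact h5
    exact mul_inv_eq_iff_eq_mul.1 (mul_inv_eq_one.1 h2)
  obtain ⟨j, b, hb, hne⟩ := h1
  obtain ⟨s, hs, hsW⟩ := bg.trans j i
  have hsV : s ∈ normalizer (V : Set G) := hV.norm (h.S_le hs)
  refine ⟨MulAut.conj s • F, hyp_cj hFa.hyp hsV, ?_, s * b * s⁻¹, ?_, fun hcon => hne fun v hv => ?_⟩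
  · rw [WW_cj hsV]
    have h3 := cj_mono s hFa.WS
    rwa [cj_eq_of_mem_normalizer (le_normalizer hs)] at h3
  · rw [WW_cj hsV]
    exact ⟨b, hb, rfl⟩
  · have h3 := hcon (s * v * s⁻¹) (by rw [← hsW]; exact ⟨v, hv, rfl⟩)
    have h4 := congrArg (fun t => s⁻¹ * t * s) h3
    simpa [mul_assoc] using h4

variable (fr : FrL (BB (S : Subgroup G) P) (o2 P) (zl (S : Subgroup G) P) (zl (S : Subgroup G) P)
  (ZJ (S : Subgroup G) P) L W Z C A q)
include fr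

/-- an element of `L` centralised by some `b ∈ B` moving `W i`, for every `i`, lies in `Z_J` -/
theorem mem_ZJ_of {x : G} (hx : x ∈ zl (S : Subgroup G) P)
    (hb : ∀ i, ∃ b ∈ BB (S : Subgroup G) P, (¬ ∀ v ∈ W i, b * v = v * b) ∧ b * x = x * b) :
    x ∈ ZJ (S : Subgroup G) P := by
  refine fr.mem_ZJ_of hx fun i a ha => ?_
  obtain ⟨b, hbB, hne, hbx⟩ := hb i
  obtain ⟨w, hw, c, hc, rfl⟩ := fr.WC i x hx
  have h1 : b * w * b⁻¹ = w ∧ b * c * b⁻¹ = c := by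
    refine fr.uniq ((fr.blk i).BV hbB hw) hw (fr.BC i b hbB c hc) hc ?_
    calc b * w * b⁻¹ * (b * c * b⁻¹) = b * (w * c) * b⁻¹ := by group
      _ = w * c := by rw [hbx]; group
  have h2 : w ∈ Z i := (fr.blk i).mem_Z hbB hne hw (mul_inv_eq_iff_eq_mul.1 h1.1)
  have h3 : Commute a w := (fr.blk i).cZ a (fr.AB i ha) w h2
  have h4 : Commute a c := fr.AC i a ha c hc
  exact (h3.mul_right h4).eq

/-- **(6)** : `X ≤ Z_J` is normalised by `D_i^p` for `p ∈ L i`, for some `D_i ≤ B` moving `W i` : `X = 1`. -/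
theorem eq_bot_of {X : Subgroup G} (hXZ : X ≤ ZJ (S : Subgroup G) P)
    (hD : ∀ i, ∃ D ≤ BB (S : Subgroup G) P, (∃ b ∈ D, ¬ ∀ v ∈ W i, b * v = v * b) ∧
      ∀ p ∈ L i, cj p D ≤ normalizer (X : Set G)) : X = ⊥ := by
  rw [eq_bot_iff]
  intro x hx
  rw [mem_bot]
  have hxZ := hXZ hx
  refine fr.C0 x (fr.ZJV hxZ) fun i => ?_
  obtain ⟨w, hw, c, hc, hcZ, rfl⟩ := fr.split_ZJ i hxZ
  obtain ⟨D, hDB, ⟨b, hbD, hb⟩, hDn⟩ := hD i
  obtain ⟨p, hp, hpZ⟩ := fr.exists_mv i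
  have hbB := hDB hbD
  have hp' : p⁻¹ ∈ L i := inv_mem hp
  have hpZ' : cj p⁻¹ (Z i) ≠ Z i := fun e => hpZ (by
    have h1 := congrArg (cj p) e
    rw [cj_cj_inv] at h1
    exact h1.symm)
  set w' : G := p⁻¹ * w * p with hw'
  have hw'W : w' ∈ W i := by
    have h1 := (fr.blk i).nV p⁻¹ hp' w ((fr.blk i).ZV hw)
    rwa [inv_inv] at h1
  -- `y = p b p⁻¹`
  have hy : p * b * p⁻¹ ∈ normalizer (X : Set G) := hDn p hp ⟨b, hbD, rfl⟩
  have h1 : p * b * p⁻¹ * (w * c) * (p * b * p⁻¹)⁻¹ * (w * c)⁻¹ ∈ X :=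
    mul_mem ((mem_normalizer_iff.1 hy _).1 hx) (inv_mem hx)
  have hpc : p * c = c * p := fr.LC i p hp c hcZ hc
  have hbc : b * c = c * b := ((fr.mem_ZJ c).1 hcZ).2 b hbB
  have hwc : w * c = c * w := fr.Vc (fr.ZV i hw) (fr.CV i hc)
  have cp : Commute p c := hpc
  have cb : Commute b c := hbc
  have cy : Commute (p * b * p⁻¹) c := (cp.mul_left cb).mul_left cp.inv_left
  have e1 : p * b * p⁻¹ * (w * c) * (p * b * p⁻¹)⁻¹ * (w * c)⁻¹ = p * (b * w' * b⁻¹ * w'⁻¹) * p⁻¹ := by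
    have e2 : (p * b * p⁻¹) * c * (p * b * p⁻¹)⁻¹ = c := by rw [cy.eq]; group
    calc p * b * p⁻¹ * (w * c) * (p * b * p⁻¹)⁻¹ * (w * c)⁻¹
        = (p * b * p⁻¹ * w * (p * b * p⁻¹)⁻¹) * ((p * b * p⁻¹) * c * (p * b * p⁻¹)⁻¹) * c⁻¹ * w⁻¹ := by group
      _ = (p * b * p⁻¹ * w * (p * b * p⁻¹)⁻¹) * w⁻¹ := by rw [e2]; group
      _ = _ := by rw [hw']; group
  have h2 : b * w' * b⁻¹ * w'⁻¹ ∈ Z i := (fr.blk i).com b hbB w' hw'W
  have h3 : b * w' * b⁻¹ * w'⁻¹ ∈ cj p⁻¹ (ZJ (S : Subgroup G) P) ⊓ Z i := by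
    refine mem_inf.2 ⟨?_, h2⟩
    rw [mem_cj, inv_inv, ← e1]
    exact hXZ h1
  rw [fr.cj_ZJ hp' hpZ', mem_bot] at h3
  have h4 : b * w' = w' * b := mul_inv_eq_iff_eq_mul.1 (mul_inv_eq_one.1 h3)
  have h5 : w' ∈ Z i := (fr.blk i).mem_Z hbB hb hw'W h4
  have h6 : w' ∈ cj p⁻¹ (Z i) ⊓ Z i := by
    refine mem_inf.2 ⟨?_, h5⟩
    rw [mem_cj, inv_inv, hw']
    have e3 : p * (p⁻¹ * w * p) * p⁻¹ = w := by group
    rwa [e3]
  rw [fr.tri' hp' hpZ', mem_bot, hw'] at h6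
  have h7 : w = 1 := by
    have h8 := congrArg (fun t => p * t * p⁻¹) h6
    simpa [mul_assoc] using h8
  rw [h7, one_mul]
  exact hc

end six

/-! ### the end -/

section fin

variable {ι : Type} {L W Z C A : ι → Subgroup G} {q : ℕ}

/-- **RELATIVE QW, (R)** -/
theorem not_neg_rel (h : WQ S P T Y) (BT : BB (S : Subgroup G) P ≤ T)
    (bg : Bg S P (BB (S : Subgroup G) P) (ZJ (S : Subgroup G) P) L W Z C q)
    (fr : FrL (BB (S : Subgroup G) P) (o2 P) (zl (S : Subgroup G) P) (zl (S : Subgroup G) P) (ZJ (S : Subgroup G) P)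
      L W Z C A q)
    (hYZ : ¬ oddGen Y ≤ centralizer (ZJ (S : Subgroup G) P : Set G))
    (hfam : ∀ i, ∃ M, centralizer (ZJ (S : Subgroup G) P : Set G) ≤ M ∧ L i ≤ M ∧
      cl (zl (S : Subgroup G) P) Y ≤ o2 M) : ¬ Neg T Y (cl (zl (S : Subgroup G) P) Y) := by
  intro neg
  have hι : Nonempty ι := by
    by_contra hcon
    rw [not_nonempty_iff] at hcon
    apply hYZ
    intro y hy
    rw [mem_centralizer_iff]
    intro z hz
    have h1 : z = 1 := fr.C0 z (fr.ZJV hz) fun i => hcon.elim i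
    rw [h1, one_mul, mul_one]
  obtain ⟨i₀⟩ := hι
  set V : Subgroup G := zl (S : Subgroup G) (GX (S : Subgroup G) P Y) with hVd
  have hV : Md S P Y V := h.md_zl
  have hlow : cl (zl (S : Subgroup G) P) Y ≤ o2 (centralizer (ZJ (S : Subgroup G) P : Set G)) := by
    obtain ⟨M, hM, -, hU⟩ := hfam i₀
    exact (le_inf (U_le h hV) hU).trans (low_of h hV hM)
  set K : Subgroup G := KK T (cl (zl (S : Subgroup G) P) Y) with hK
  set R : Subgroup G := zl (S : Subgroup G) P ⊓ centralizer (K : Set G) with hR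
  set U₁ : Subgroup G := cl R Y with hU₁
  have hLV : zl (S : Subgroup G) P ≤ V := h.L_le_V hV
  have hUV : cl (zl (S : Subgroup G) P) Y ≤ V := U_le_zl h
  have hQL : o2 P ≤ centralizer (zl (S : Subgroup G) P : Set G) := by
    rw [← h.cl.zc_eq]; exact Level.le_centralizer_zc _
  have hKY : Y ≤ normalizer (K : Set G) := KK_norm h neg
  have hU₁U : U₁ ≤ cl (zl (S : Subgroup G) P) Y := cl_le fun y hy => (cj_mono y inf_le_left).trans (cj_le_cl hy)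
  have hU₁K : U₁ ≤ centralizer (K : Set G) := cl_le fun y hy => by
    have h1 := cj_mono y (inf_le_right : R ≤ centralizer (K : Set G))
    rwa [cj_centralizer, cj_eq_of_mem_normalizer (hKY hy)] at h1
  -- `U₁ > R`
  have hne : ¬ U₁ ≤ R := by
    intro h1
    have h2 : U₁ = R := le_antisymm h1 (le_cl _ _)
    have h3 : Y ≤ normalizer (R : Set G) := by
      rw [← h2]; exact le_normalizer_cl _ _
    have hYY : Y ≤ normalizer ((Y ⊓ centralizer (R : Set G) : Subgroup G) : Set G) :=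
      NO3b.EZero.le_normalizer_inf_cent h3
    rcases NO3b.K0.min_or h.syl h.min (K := Y ⊓ centralizer (R : Set G)) inf_le_left hYY with h4 | h4
    · exact hYZ ((h4.trans inf_le_right).trans (centralizer_le (ZJ_le_R h neg)))
    · exact h.nQ ((le_inf h.QT (le_inf (h.QT.trans h.T_Y) (hQL.trans (centralizer_le inf_le_left)))).trans h4)
  -- `u`
  have hUT : U₁ ≤ T := (hU₁U.trans hUV).trans ((hV.le.trans h.V_le_D).trans h.DX_T)
  obtain ⟨u, huU, huR, hu⟩ := OneLine.exists_fixed h.T2 hUT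
    (h.T_Y.trans (le_normalizer_cl R Y)) hne
  have huV : u ∈ V := hUV (hU₁U huU)
  -- an active `F`
  obtain ⟨F₀, hF₀⟩ := exists_act h BT hlow neg
  have hLc : ∀ a ∈ zl (S : Subgroup G) P, ∀ b ∈ zl (S : Subgroup G) P, a * b = b * a := fun a ha b hb =>
    (mem_centralizer_iff.1 ((h.Vc hV) (hLV ha)) b (hLV hb)).symm
  have hQc : ∀ q ∈ o2 P, ∀ l ∈ zl (S : Subgroup G) P, q * l = l * q := fun q hq l hl =>
    (mem_centralizer_iff.1 (hQL hq) l hl).symm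
  set X : Subgroup G := closure {x | ∃ q ∈ o2 P, x = q * u * q⁻¹ * u⁻¹} with hX
  have hXR : X ≤ R := by
    rw [hX, closure_le]
    rintro _ ⟨q, hq, rfl⟩
    exact hu q (h.QT hq)
  have hXL : X ≤ zl (S : Subgroup G) P := hXR.trans inf_le_left
  -- invariance
  have hinv : ∀ i, ∀ p ∈ L i, ∀ F, NOne.Flat.Hyp V F → NOne.Flat.WW V F ≤ (S : Subgroup G) →
      cj p (NOne.Flat.WW V F) ≤ normalizer (X : Set G) := by
    intro i p hpL F hF hWS x hx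
    have hp : p ∈ P := bg.LP i hpL
    obtain ⟨M, hM, hLM, hUM⟩ := hfam i
    have hUE := U_le_E h hV hF hWS hM hUM hp (hLM hpL)
    have hc : u ∈ centralizer
        (cj p (NOne.Flat.WW V F ⊓ centralizer (zl (S : Subgroup G) P : Set G)) : Set G) :=
      centralizer_le (le_KK (AF_ex_of h hV hF hWS hp hUE)) (hU₁K huU)
    have h1 := comm_mem h hV hF hWS hp hUE (hU₁U huU) hc hx
    have hxP : x ∈ P := by
      have h2 := cj_mono p (hWS.trans h.parP.le) hx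
      rwa [cj_eq_of_mem_normalizer (le_normalizer hp)] at h2
    refine mem_normalizer_of_cj_le (cj_le_iff.2 ?_)
    rw [hX, closure_le]
    rintro _ ⟨q, hq, rfl⟩
    change _ ∈ cj x⁻¹ X
    rw [mem_cj, inv_inv]
    set l : G := x * u * x⁻¹ * u⁻¹ with hl
    have hq' : x * q * x⁻¹ ∈ o2 P := (mem_normalizer_iff.1 (ZN.le_normalizer_o2 _ hxP) q).1 hq
    set q' : G := x * q * x⁻¹ with hq'd
    have h3 : q' * u * q'⁻¹ * u⁻¹ ∈ X := subset_closure ⟨q', hq', rfl⟩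
    have e1 : q' * l = l * q' := hQc q' hq' l h1
    have e2 : l * (q' * u * q'⁻¹ * u⁻¹) = q' * u * q'⁻¹ * u⁻¹ * l := hLc _ h1 _ (hXL h3)
    have e : x * (q * u * q⁻¹ * u⁻¹) * x⁻¹ = q' * u * q'⁻¹ * u⁻¹ := by
      have e3 : x * u * x⁻¹ = l * u := by rw [hl]; group
      calc x * (q * u * q⁻¹ * u⁻¹) * x⁻¹ = q' * (x * u * x⁻¹) * q'⁻¹ * (x * u * x⁻¹)⁻¹ := by
            rw [hq'd]; group
        _ = q' * (l * u) * q'⁻¹ * (l * u)⁻¹ := by rw [e3]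
        _ = (q' * l) * u * q'⁻¹ * u⁻¹ * l⁻¹ := by group
        _ = l * (q' * u * q'⁻¹ * u⁻¹) * l⁻¹ := by rw [e1]; group
        _ = _ := by rw [e2, mul_inv_cancel_right]
    rw [e]
    exact h3
  -- `X ≤ Z_J`
  have hcW : ∀ F, NOne.Flat.Hyp V F → NOne.Flat.WW V F ≤ (S : Subgroup G) →
      X ≤ centralizer (NOne.Flat.WW V F : Set G) := fun F hF hWS =>
    (hXR.trans inf_le_right).trans (centralizer_le (le_KK (W_ex h BT hlow hV hF hWS)))
  have hXZ : X ≤ ZJ (S : Subgroup G) P := fun x hx => mem_ZJ_of fr (hXL hx) fun i => by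
    obtain ⟨F, hF, hWS, b, hb, hne⟩ := exists_F h hV bg fr hF₀ i
    exact ⟨b, h.W_B hV hF hWS hb, hne, mem_centralizer_iff.1 (hcW F hF hWS hx) b hb⟩
  have hX1 : X = ⊥ := eq_bot_of fr hXZ fun i => by
    obtain ⟨F, hF, hWS, b, hb, hne⟩ := exists_F h hV bg fr hF₀ i
    exact ⟨NOne.Flat.WW V F, h.W_B hV hF hWS, ⟨b, hb, hne⟩, fun p hp => hinv i p hp F hF hWS⟩
  -- `u ∈ C_V(Q) = L`
  have huQ : u ∈ centralizer (o2 P : Set G) := by
    rw [mem_centralizer_iff]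
    intro q hq
    have h1 : q * u * q⁻¹ * u⁻¹ ∈ X := subset_closure ⟨q, hq, rfl⟩
    rw [hX1, mem_bot] at h1
    have h2 : q * u * q⁻¹ = u := by
      have := mul_eq_one_iff_eq_inv.1 h1
      rwa [inv_inv] at this
    calc q * u = (q * u * q⁻¹) * q := by group
      _ = u * q := by rw [h2]
  have huL : u ∈ zl (S : Subgroup G) P := by
    have h1 : u ∈ zc (DX (S : Subgroup G) P Y) ⊓ centralizer (o2 P : Set G) := ⟨hV.le huV, huQ⟩
    rwa [h.cvQ] at h1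
  exact huR ⟨huL, hU₁K huU⟩

/-- **RELATIVE QW, (R)**, the form for the plug -/
theorem exists_best_rel (h : WQ S P T Y) (BT : BB (S : Subgroup G) P ≤ T)
    (bg : Bg S P (BB (S : Subgroup G) P) (ZJ (S : Subgroup G) P) L W Z C q)
    (fr : FrL (BB (S : Subgroup G) P) (o2 P) (zl (S : Subgroup G) P) (zl (S : Subgroup G) P) (ZJ (S : Subgroup G) P)
      L W Z C A q)
    (hYZ : ¬ oddGen Y ≤ centralizer (ZJ (S : Subgroup G) P : Set G))
    (hfam : Neg T Y (cl (zl (S : Subgroup G) P) Y) → ∀ i, ∃ M, centralizer (ZJ (S : Subgroup G) P : Set G) ≤ M ∧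
      L i ≤ M ∧ cl (zl (S : Subgroup G) P) Y ≤ o2 M) :
    ∃ A ≤ T, Best (cl (zl (S : Subgroup G) P) Y) A ∧ ¬ A ≤ centralizer (cl (zl (S : Subgroup G) P) Y : Set G) ∧
      ¬ A ≤ o2 Y := by
  by_contra hcon
  have neg : Neg T Y (cl (zl (S : Subgroup G) P) Y) := Neg.of_best fun A hA hb hne => by
    by_contra hY'
    exact hcon ⟨A, hA, hb, hne, hY'⟩
  exact not_neg_rel h BT bg fr hYZ (hfam neg) neg

end fin

end Cfsg.Agent.Omega.NO3S.CaseLW.QWrel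

end

-- merged: Cfsg.Agent.Mrg.Omega.NO3S.CaseLW.LamQ.ActNT
section

section


/-!
# `LowE` and `OffE` from THEOREM L(q) over the `T` which normalise all `Z l` (helper98, helper507)

`LamQ/ActNZ.lean` with the hypothesis `∀ i, T ≤ N(Z i)` (needed by THEOREM L(q), #26406): it is automatic for
`T ≤ C_G(D)`, if `D` meets every `Z l`.

* `norm_Z` : a 2-group `T ≥ B` which centralises `D` normalises all `Z i`;
* `BestT h c` : `Y ∈ P(T)`, `B ≤ T ≤ N(Z i)` for all `i`, `Y ≤ C_G(c)`, characteristic 2, `lim S ≤ O₂(Y)`,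
  `O₂(P) ≰ O₂(Y)`, `Y ≰ N(Z_J)`: some best offender `A ≤ T` on `⟨V_P^Y⟩` is not in `O₂(Y)`;
* `bestZ_of` : `BestT` for all `c ∈ Z_J` of full support gives `BestZ h.cl (C_G(D))`;
* `lowE_of_bestT`, `offE_of_bestT`.
-/

set_option autoImplicit false
set_option linter.unusedSectionVars false

namespace Cfsg.Agent.Omega.NO3S.CaseLW.LamQ.ActNT

open Subgroup Cfsg Cfsg.Agent.ZN.ChoiceBase Cfsg.Agent.ZN.ChoiceSit
open Cfsg.Agent.ZN (jj zj bau zc zl o2)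
open Cfsg.Agent.MinSimple.MinParabolic (IsMinPar)
open Cfsg.Agent.Omega.OM.Lev.Uni (FrL)
open Cfsg.Agent.Omega.NO1.BestOff (Best)
open Cfsg.Agent.Omega.NO3S.Level
open Cfsg.Agent.Omega.OM.SwapK (VF)
open Cfsg.Agent.Omega.Node.MulX (MulL)
open Cfsg.Agent.Omega.OM.SWT (nL LowW LowC OffC)
open Cfsg.Agent.Omega.NO3S.CaseLW.QWoFr (Z_C not_mem_C)

universe u

variable {G : Type u} [Group G] [Finite G]
  {S : Sylow 2 G} {P B ZJ : Subgroup G} {k : ℕ} {L W Z C A : Fin k → Subgroup G} {q : ℕ}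

/-- **a 2-group `T ≥ B` which centralises an element `≠ 1` of `Z i` normalises `Z i`** -/
theorem norm_Z_one (h : MulL S P B ZJ L W Z C A q) {T : Subgroup G} (hT : IsPGroup 2 T) (hB : B ≤ T)
    {i : Fin k} {z : G} (hz : z ∈ Z i) (hz1 : z ≠ 1) (hc : ∀ t ∈ T, t * z = z * t) :
    T ≤ normalizer (Z i : Set G) := by
  intro t ht
  have htB : t ∈ normalizer (B : Set G) := h.lb.two_le hT hB ht
  obtain ⟨j, hj, -⟩ := (h.fr.norm_of htB (h.norm_le htB)).2 i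
  have h1 : z ∈ Z j := by
    rw [← hj]
    refine ⟨z, hz, ?_⟩
    change t * z * t⁻¹ = z
    rw [hc t ht]
    group
  have h2 : j = i := by
    by_contra hne
    exact not_mem_C h.fr h1 hz1 (Z_C h.fr hne hz)
  rw [mem_normalizer_iff_cj, hj, h2]

theorem norm_Z (h : MulL S P B ZJ L W Z C A q) {D T : Subgroup G} (hD : ∀ l, ∃ z ∈ Z l, z ≠ 1 ∧ z ∈ D)
    (hT : IsPGroup 2 T) (hB : B ≤ T) (hc : T ≤ centralizer (D : Set G)) (i : Fin k) :
    T ≤ normalizer (Z i : Set G) := by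
  obtain ⟨z, hz, hz1, hzD⟩ := hD i
  exact norm_Z_one h hT hB hz hz1 fun t ht => (mem_centralizer_iff.1 (hc ht) z hzD).symm

/-- **THEOREM L(q) and the cut, as one statement** -/
def BestT (_h : MulL S P B ZJ L W Z C A q) (c : G) : Prop :=
  ∀ T Y : Subgroup G, Syl T Y → B ≤ T → IsMinPar T Y → Y ⊓ centralizer (o2 Y : Set G) ≤ o2 Y →
    (∀ i, T ≤ normalizer (Z i : Set G)) → Y ≤ centralizer ({c} : Set G) → lim (S : Subgroup G) ≤ o2 Y →
    ¬ o2 P ≤ o2 Y → ¬ Y ≤ normalizer (ZJ : Set G) → ∃ A, A ≤ T ∧ Best (VF S P Y) A ∧ ¬ A ≤ o2 Y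

/-- **`BestZ` over `C_G(D)`, `D` meets every `Z l`** -/
theorem bestZ_of (h : MulL S P B ZJ L W Z C A q) (ho : ∀ c ∈ ZJ, (∀ i, c ∉ C i) → BestT h c)
    {D : Subgroup G} (hD : D ≤ ZJ) (hm : ∀ l, ∃ z ∈ Z l, z ≠ 1 ∧ z ∈ D) :
    ActNZ.BestZ h.cl (centralizer (D : Set G)) := by
  obtain ⟨c, hc, hcf⟩ := LowH.exists_full_of h hm
  intro T Y hT hB hP hch hYH hl hK hn
  have e : B = OM.SwapT.BT (S : Subgroup G) (o2 P) := by rw [h.eB, h.eZ]; rfl
  have eZ : ZJ = OM.SwapT.ZT (S : Subgroup G) (o2 P) := h.eZ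
  rw [← eZ] at hn
  rw [← e] at hB
  exact ho c (hD hc) hcf T Y hT hB hP hch (norm_Z h hm hT.2.1 hB (hT.1.trans hYH))
    (hYH.trans (centralizer_le (Set.singleton_subset_iff.2 hc))) hl hK hn

/-- **`LowE`** -/
theorem lowE_of_bestT (h : MulL S P B ZJ L W Z C A q) (hq : 4 ≤ q)
    (ho : ∀ c ∈ ZJ, (∀ i, c ∉ C i) → BestT h c) :
    ∀ D : Subgroup G, D ≤ ZJ → (∀ l, ∃ z ∈ Z l, z ≠ 1 ∧ z ∈ D) → LowW h.cl (centralizer (D : Set G)) :=
  ActNZ.lowE_of_bestZ h hq fun _ hD hm => bestZ_of h ho hD hm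

/-- **`OffE`** -/
theorem offE_of_bestT (h : MulL S P B ZJ L W Z C A q) (ho : ∀ c ∈ ZJ, (∀ i, c ∉ C i) → BestT h c) :
    ∀ D : Subgroup G, D ≤ ZJ → (∀ l, ∃ z ∈ Z l, z ≠ 1 ∧ z ∈ D) →
      OffC h.cl (normalizer (ZJ : Set G)) (centralizer (D : Set G)) :=
  ActNZ.offE_of_bestZ h fun _ hD hm => bestZ_of h ho hD hm

end Cfsg.Agent.Omega.NO3S.CaseLW.LamQ.ActNT

end

section


/-!
# RELATIVE QW: the plug into `ActNZ.BestZ` (`LowE`, `OffE`), from the family (helper291 #26899)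

* `HFam h` : **socket** : `WQ S P T Y`, `B ≤ T`, `Y ≤ C(z l)`, `1 ≠ z l ∈ Z l` for all `l`, (neg): `⟨V_P^Y⟩ ≤ O₂(C_G(z m : m ≠ l))`;
* `best_S` : `T ≤ S`; `best_gen` : any 2-group `T ≥ B`;
* `bestZ_of_fam` : `ActNZ.BestZ h.cl (C(D))`, `D ≤ Z_J` meets every `Z l`;
* `lowE_of_fam`, `offE_of_fam`.
-/

set_option autoImplicit false
set_option linter.unusedSectionVars false
set_option linter.dupNamespace false

namespace Cfsg.Agent.Omega.NO3S.CaseLW.QWrelPlug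

open Subgroup Cfsg Cfsg.Agent.ZN.ChoiceBase Cfsg.Agent.ZN.ChoiceSit
open Cfsg.Agent.ZN (jj zj bau zc zl o2)
open Cfsg.Agent.MinSimple.MinParabolic (IsMinPar)
open Cfsg.Agent.MinSimple.VModule (oddGen)
open Cfsg.Agent.Omega.NO3b.EZero (cl oddGen_sup_syl)
open Cfsg.Agent.Omega.OM.Lev.Uni (FrL)
open Cfsg.Agent.Omega.NO1.BestOff (Best)
open Cfsg.Agent.Omega.NO3S.Level
open Cfsg.Agent.Omega.NO3S.WY (WQ BB)
open Cfsg.Agent.Omega.NO3S.CaseLW.QWc (Neg)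
open Cfsg.Agent.Omega.OM.SwapK (VF)
open Cfsg.Agent.Omega.OM.SwapT (BT ZT K_le wc lb norm_K)
open Cfsg.Agent.Omega.OM.SwapT.QuietL (isMinPar_cj best_cj exists_norm_B)
open Cfsg.Agent.Omega.Node.MulX (MulL)
open Cfsg.Agent.Omega.OM.SWT (nL LowW LowC OffC)

universe u

variable {G : Type u} [Group G] [Finite G]
  {S : Sylow 2 G} {P B ZJ : Subgroup G} {k : ℕ} {L W Z C A : Fin k → Subgroup G} {q : ℕ}

/-- the elements `z m`, `m ≠ l` -/
def others (z : Fin k → G) (l : Fin k) : Set G := {x | ∃ m, m ≠ l ∧ z m = x}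

/-- **Socket** (helper291 #26899 (1)-(3)) -/
def HFam (_h : MulL S P B ZJ L W Z C A q) : Prop :=
  ∀ T Y : Subgroup G, WQ S P T Y → B ≤ T → ∀ z : Fin k → G, (∀ l, z l ∈ Z l) → (∀ l, z l ≠ 1) →
    (∀ l, Y ≤ centralizer ({z l} : Set G)) → Neg T Y (cl (zl (S : Subgroup G) P) Y) →
    ∀ l, cl (zl (S : Subgroup G) P) Y ≤ o2 (centralizer (others z l))

/-- **OffE / LowE for `T ≤ S`** -/
theorem best_S (h : MulL S P B ZJ L W Z C A q) (hf : HFam h) {T Y : Subgroup G} (hw : WQ S P T Y) (hB : B ≤ T)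
    (hz : ∀ l, ∃ z ∈ Z l, z ≠ 1 ∧ Y ≤ centralizer ({z} : Set G)) (hn : ¬ Y ≤ normalizer (ZJ : Set G)) :
    ∃ A', A' ≤ T ∧ Best (VF S P Y) A' ∧ ¬ A' ≤ o2 Y := by
  have eZ : ZJ = WY.ZJ (S : Subgroup G) P := h.eZ
  have eB : B = BB (S : Subgroup G) P := by rw [h.eB, eZ]
  have bg := h.bg
  have fr := h.fr
  rw [eB, eZ] at bg fr
  choose z hz1 hz2 hz3 using hz
  have hodd : ¬ oddGen Y ≤ centralizer (WY.ZJ (S : Subgroup G) P : Set G) := by
    intro h1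
    apply hn
    rw [eZ, ← oddGen_sup_syl hw.syl]
    refine sup_le (h1.trans (centralizer_le_normalizer _)) ?_
    rw [← eZ]
    exact hw.TS.trans h.bg.SZJ
  have hsub : ∀ l, others z l ⊆ (WY.ZJ (S : Subgroup G) P : Set G) := by
    rintro l _ ⟨m, -, rfl⟩
    exact fr.Z_le m (hz1 m)
  have hLc : ∀ l, L l ≤ centralizer (others z l) := by
    intro l x hx
    rw [mem_centralizer_iff]
    rintro _ ⟨m, hm, rfl⟩
    exact (fr.LC l x hx (z m) (fr.Z_le m (hz1 m)) (fr.WjC l m (Ne.symm hm) ((fr.blk m).ZV (hz1 m)))).symm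
  obtain ⟨A', hA, hb, -, hn'⟩ := QWrel.exists_best_rel hw (eB ▸ hB) bg fr hodd fun neg l =>
    ⟨centralizer (others z l), centralizer_le (hsub l), hLc l, hf T Y hw hB z hz1 hz2 hz3 neg l⟩
  exact ⟨A', hA, hb, hn'⟩

/-- **for every 2-group `T ≥ B`** -/
theorem best_gen (h : MulL S P B ZJ L W Z C A q) (hf : HFam h) {T F : Subgroup G} (hT : Syl T F) (hB : B ≤ T)
    (hmin : IsMinPar T F) (hc : F ⊓ centralizer (o2 F : Set G) ≤ o2 F)
    (hz : ∀ l, ∃ z ∈ Z l, z ≠ 1 ∧ F ≤ centralizer ({z} : Set G)) (hl : lim (S : Subgroup G) ≤ o2 F)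
    (hn : ¬ o2 P ≤ o2 F) (hZ : ¬ F ≤ normalizer (ZJ : Set G)) :
    ∃ A', A' ≤ T ∧ Best (VF S P F) A' ∧ ¬ A' ≤ o2 F := by
  have eBT : B = BT (S : Subgroup G) (o2 P) := by rw [h.eB, h.eZ]; rfl
  have hwc := h.cl.wc
  obtain ⟨g, hg, hle, -⟩ := exists_norm_B hwc h.cl.levQ hT.2.1 (eBT ▸ hB)
  have hgi : g⁻¹ ∈ normalizer (BT (S : Subgroup G) (o2 P) : Set G) := inv_mem hg
  have hgQ : cj g⁻¹ (o2 P) = o2 P := mem_normalizer_iff_cj.1 (norm_K hwc hgi)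
  have hgV : cj g⁻¹ (zl (S : Subgroup G) P) = zl (S : Subgroup G) P :=
    mem_normalizer_iff_cj.1 (h.cl.norm_o2_le (norm_K hwc hgi))
  have hgB : cj g⁻¹ (BT (S : Subgroup G) (o2 P)) = BT (S : Subgroup G) (o2 P) := mem_normalizer_iff_cj.1 hgi
  have hgl : cj g⁻¹ (lim (S : Subgroup G)) = lim (S : Subgroup G) :=
    OM.LevD.norm_of_wc (NO3S.Level.wc_lim S) (lb hwc).Bp (h.cl.lim_le.trans (K_le hwc)) hgi
  have ho2 : o2 (cj g⁻¹ F) = cj g⁻¹ (o2 F) := o2_cj _ _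
  have hVF : VF S P (cj g⁻¹ F) = cj g⁻¹ (VF S P F) := by
    have := NO3b.Exit.conj_V g⁻¹ (zl (S : Subgroup G) P) F
    rw [hgV] at this
    exact this.symm
  have hgZJ : g ∈ normalizer (ZJ : Set G) := by
    have h1 := (lb hwc).norm_B_le hg
    have eZ : ZJ = ZT (S : Subgroup G) (o2 P) := h.eZ
    rwa [eZ]
  have hnN : ¬ cj g⁻¹ F ≤ normalizer (ZJ : Set G) := by
    intro hle'
    apply hZ
    have := cj_mono g hle'
    rw [cj_cj_inv] at this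
    exact this.trans (cj_eq_of_mem_normalizer (le_normalizer hgZJ)).le
  have hTS : cj g⁻¹ T ≤ (S : Subgroup G) := by
    have := cj_mono g⁻¹ hle
    rwa [cj_inv_cj] at this
  have hBT' : BT (S : Subgroup G) (o2 P) ≤ cj g⁻¹ T := by
    have := cj_mono g⁻¹ (eBT ▸ hB : BT (S : Subgroup G) (o2 P) ≤ T)
    rwa [hgB] at this
  have hsy : Syl (cj g⁻¹ T) (cj g⁻¹ F) := NO1.JMin.syl_cj hT g⁻¹
  have hZJN : centralizer (zl (S : Subgroup G) P : Set G) ≤ normalizer (ZJ : Set G) :=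
    (centralizer_le h.fr.ZJV).trans (centralizer_le_normalizer _)
  have hwq : WQ S P (cj g⁻¹ T) (cj g⁻¹ F) :=
    { cl := h.cl
      TS := hTS
      QT := (K_le hwc).trans hBT'
      syl := hsy
      min := isMinPar_cj g⁻¹ hmin
      c2 := by
        rw [ho2]
        have := cj_mono g⁻¹ hc
        rwa [cj_inf, cj_centralizer] at this
      mvL := by
        intro hcon
        apply hnN
        rw [← oddGen_sup_syl hsy]
        exact sup_le (hcon.trans hZJN) (hTS.trans h.bg.SZJ)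
      nQ := by
        intro hcon
        apply hn
        rw [ho2] at hcon
        have := cj_mono g hcon
        rw [cj_cj_inv] at this
        refine le_trans (le_of_eq ?_) this
        rw [← hgQ, cj_cj_inv, hgQ]
      jY := by
        rw [ho2]
        refine ((NO3S.Level.lev_mono (S : Subgroup G) (Nat.zero_le _)).trans hgl.ge).trans (cj_mono g⁻¹ hl) }
  have hz' : ∀ l, ∃ z ∈ Z l, z ≠ 1 ∧ cj g⁻¹ F ≤ centralizer ({z} : Set G) := by
    intro l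
    obtain ⟨j, hj, -⟩ := (h.bg.nrm g (by rw [eBT]; exact hg)).2 l
    obtain ⟨z, hzj, hz1, hzF⟩ := hz j
    rw [← hj] at hzj
    refine ⟨g⁻¹ * z * g, mem_cj.1 hzj, fun h1 => hz1 ?_, ?_⟩
    · have h2 := congrArg (fun t => g * t * g⁻¹) h1
      simpa [mul_assoc] using h2
    · intro x hx
      rw [mem_cj, inv_inv] at hx
      have h1 := mem_centralizer_iff.1 (hzF hx) z rfl
      rw [mem_centralizer_iff]
      rintro _ rfl
      calc g⁻¹ * z * g * x = g⁻¹ * (z * (g * x * g⁻¹)) * g := by group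
        _ = g⁻¹ * (g * x * g⁻¹ * z) * g := by rw [h1]
        _ = x * (g⁻¹ * z * g) := by group
  obtain ⟨A', hA, hb, hnA⟩ := best_S h hf hwq (eBT ▸ hBT') hz' hnN
  refine ⟨cj g A', ?_, ?_, fun hcon => hnA ?_⟩
  · have := cj_mono g hA
    rwa [cj_cj_inv] at this
  · rw [hVF] at hb
    have h1 := best_cj g hb
    rwa [cj_cj_inv] at h1
  · rw [ho2]
    have := cj_mono g⁻¹ hcon
    rwa [cj_inv_cj] at this

/-- **`BestZ` from the family** -/
theorem bestZ_of_fam (h : MulL S P B ZJ L W Z C A q) (hf : HFam h) {D : Subgroup G}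
    (hm : ∀ l, ∃ z ∈ Z l, z ≠ 1 ∧ z ∈ D) : LamQ.ActNZ.BestZ h.cl (centralizer (D : Set G)) := by
  intro T Y hT hB hP hch hYH hl hK hn
  have eBT : B = BT (S : Subgroup G) (o2 P) := by rw [h.eB, h.eZ]; rfl
  have eZ : ZJ = ZT (S : Subgroup G) (o2 P) := h.eZ
  rw [← eZ] at hn
  refine best_gen h hf hT (by rw [eBT]; exact hB) hP hch (fun l => ?_) hl hK hn
  obtain ⟨z, hz, hz1, hzD⟩ := hm l
  exact ⟨z, hz, hz1, hYH.trans (centralizer_le (Set.singleton_subset_iff.2 hzD))⟩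

/-- **`LowE`** -/
theorem lowE_of_fam (h : MulL S P B ZJ L W Z C A q) (hq : 4 ≤ q) (hf : HFam h) :
    ∀ D : Subgroup G, D ≤ ZJ → (∀ l, ∃ z ∈ Z l, z ≠ 1 ∧ z ∈ D) → LowW h.cl (centralizer (D : Set G)) :=
  LamQ.ActNZ.lowE_of_bestZ h hq fun _ _ hm => bestZ_of_fam h hf hm

/-- **`OffE`** -/
theorem offE_of_fam (h : MulL S P B ZJ L W Z C A q) (hf : HFam h) :
    ∀ D : Subgroup G, D ≤ ZJ → (∀ l, ∃ z ∈ Z l, z ≠ 1 ∧ z ∈ D) →
      OffC h.cl (normalizer (ZJ : Set G)) (centralizer (D : Set G)) :=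
  LamQ.ActNZ.offE_of_bestZ h fun _ _ hm => bestZ_of_fam h hf hm

end Cfsg.Agent.Omega.NO3S.CaseLW.QWrelPlug

end

end
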